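import Mathlib

/-! Successive approximation in complete nonarchimedean groups and modules. -/

set_option autoImplicit false
set_option linter.unusedSectionVars false
open Topology Filter

namespace LinTopLib

universe u v

/-- A family of sets shrinks to zero. -/
def Shrinks {G : Type v} [Zero G] [TopologicalSpace G] (N : ℕ → Set G) : Prop :=
  ∀ V ∈ 𝓝 (0 : G), ∃ n, ∀ k, n ≤ k → N k ⊆ V

theorem Shrinks.tendsto {G : Type v} [Zero G] [TopologicalSpace G] {N : ℕ → Set G}
    (h : Shrinks N) {d : ℕ → G} (hd : ∀ k, d k ∈ N k) : Tendsto d atTop (𝓝 0) :=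
  tendsto_def.2 fun V hV =>
    let ⟨n, hn⟩ := h V hV
    mem_atTop_sets.2 ⟨n, fun k hk => hn k hk (hd k)⟩

theorem shrinks_of_antitone {G : Type v} [Zero G] [TopologicalSpace G] {N : ℕ → Set G}
    (hN : Antitone N) (h : ∀ V ∈ 𝓝 (0 : G), ∃ n, N n ⊆ V) : Shrinks N := fun V hV =>
  let ⟨n, hn⟩ := h V hV
  ⟨n, fun _ hk => (hN hk).trans hn⟩

theorem shrinks_closure {G : Type v} [Zero G] [TopologicalSpace G] [RegularSpace G]
    {N : ℕ → Set G} (h : Shrinks N) : Shrinks fun k => closure (N k) := fun V hV => by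
  obtain ⟨C, ⟨hC, hCc⟩, hCV⟩ := (closed_nhds_basis (0 : G)).mem_iff.1 hV
  obtain ⟨n, hn⟩ := h C hC
  exact ⟨n, fun k hk => (closure_minimal (hn k hk) hCc).trans hCV⟩

section Group

variable {G : Type v} [AddCommGroup G] [UniformSpace G] [IsUniformAddGroup G]
  [NonarchimedeanAddGroup G] [CompleteSpace G]

theorem exists_series_tendsto {d : ℕ → G} (hd : Tendsto d atTop (𝓝 0)) :
    ∃ L, Tendsto (fun n => ∑ i ∈ Finset.range n, d i) atTop (𝓝 L) :=
  cauchySeq_tendsto_of_complete (NonarchimedeanAddGroup.cauchySeq_of_tendsto_sub_nhds_zero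
    (by simpa [Finset.sum_range_succ] using hd))

/-- The image lemma of successive approximation. -/
theorem image_eq_closure_image {H : Type u} [AddCommGroup H] [TopologicalSpace H]
    [IsTopologicalAddGroup H] [T2Space H] (φ : G →+ H) (hφ : Continuous φ)
    (U : ℕ → AddSubgroup G) (hU : Antitone U) (hUc : ∀ n, IsClosed (U n : Set G))
    (hUs : ∀ V ∈ 𝓝 (0 : G), ∃ n, (U n : Set G) ⊆ V)
    (h : ∀ n, closure (φ '' (U n : Set G)) ∈ 𝓝 (0 : H)) (n : ℕ) :
    closure (φ '' (U n : Set G)) = φ '' (U n : Set G) := by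
  refine (subset_closure.antisymm ?_).symm
  intro b hb
  have step : ∀ k, ∀ y ∈ closure (φ '' (U (n + k) : Set G)),
      ∃ d ∈ U (n + k), y - φ d ∈ closure (φ '' (U (n + k + 1) : Set G)) := by
    intro k y hy
    rw [mem_closure_iff_nhds] at hy
    have hy' : (fun z => y - z) ⁻¹' closure (φ '' (U (n + k + 1) : Set G)) ∈ 𝓝 y :=
      (continuous_const.sub continuous_id).continuousAt.preimage_mem_nhds (by simpa using h _)
    obtain ⟨_, hz, d, hd, rfl⟩ := hy _ hy'
    exact ⟨d, hd, hz⟩
  choose! D hD hD' using step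
  let r : ℕ → H := Nat.rec b fun k y => y - φ (D k y)
  have hr : ∀ k, r k ∈ closure (φ '' (U (n + k) : Set G)) := by
    intro k
    induction k with
    | zero => exact hb
    | succ k ih => exact hD' k _ ih
  have hDmem : ∀ k, D k (r k) ∈ U (n + k) := fun k => hD k _ (hr k)
  have hshrink : Shrinks fun k => (U (n + k) : Set G) :=
    shrinks_of_antitone (fun i j hij => hU (by omega)) fun V hV =>
      let ⟨m, hm⟩ := hUs V hV
      ⟨m, (SetLike.coe_subset_coe.2 (hU (by omega : m ≤ n + m))).trans hm⟩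
  obtain ⟨L, hL⟩ := exists_series_tendsto (hshrink.tendsto hDmem)
  refine ⟨L, (hUc n).mem_of_tendsto hL (Eventually.of_forall fun m =>
    (U n).sum_mem fun i _ => hU (Nat.le_add_right n i) (hDmem i)), ?_⟩
  have hre : ∀ m, φ (∑ i ∈ Finset.range m, D i (r i)) = b - r m := by
    intro m
    induction m with
    | zero => simp [r]
    | succ m ih =>
      rw [Finset.sum_range_succ, map_add, ih]
      show _ = b - (r m - φ (D m (r m)))
      abel
  have hr0 : Tendsto r atTop (𝓝 0) := by
    refine (shrinks_closure fun V hV => ?_).tendsto hr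
    obtain ⟨m, hm⟩ := hshrink _ (hφ.continuousAt.preimage_mem_nhds (show V ∈ 𝓝 (φ 0) by simpa using hV))
    exact ⟨m, fun k hk => Set.image_subset_iff.2 (hm k hk)⟩
  refine tendsto_nhds_unique ((hφ.tendsto L).comp hL) ?_
  simp only [Function.comp_def, hre]
  simpa using tendsto_const_nhds.sub hr0

end Group

section Module

variable {R : Type u} [CommRing R] {M : Type v} [AddCommGroup M] [Module R M]

theorem exists_sum_of_mem_smul {ι : Type*} [Fintype ι] (g : ι → R) (N : Submodule R M) {x : M}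
    (hx : x ∈ Ideal.span (Set.range g) • N) :
    ∃ c : ι → M, (∀ i, c i ∈ N) ∧ x = ∑ i, g i • c i := by
  induction hx using Submodule.smul_induction_on' with
  | smul r hr m hm =>
    obtain ⟨a, rfl⟩ := Ideal.mem_span_range_iff_exists_fun.1 hr
    refine ⟨fun i => a i • m, fun i => N.smul_mem _ hm, ?_⟩
    rw [Finset.sum_smul]
    exact Finset.sum_congr rfl fun i _ => by rw [smul_smul, mul_comm]
  | add x hx y hy ihx ihy =>
    obtain ⟨c, hc, rfl⟩ := ihx
    obtain ⟨e, he, rfl⟩ := ihy
    exact ⟨c + e, fun i => N.add_mem (hc i) (he i), by simp [smul_add, Finset.sum_add_distrib]⟩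

variable [UniformSpace M] [IsUniformAddGroup M] [NonarchimedeanAddGroup M] [CompleteSpace M]
  [T2Space M] [ContinuousConstSMul R M]

theorem series_mem_smul {J : Ideal R} (hJ : J.FG) (N : ℕ → Submodule R M)
    (hN : Shrinks fun k => (N k : Set M)) (N₀ : Submodule R M) (hN₀ : IsClosed (N₀ : Set M))
    (hle : ∀ k, N k ≤ N₀) {d : ℕ → M} (hd : ∀ k, d k ∈ J • N k) :
    ∃ L ∈ J • N₀, Tendsto (fun n => ∑ i ∈ Finset.range n, d i) atTop (𝓝 L) := by
  classical
  obtain ⟨s, rfl⟩ := hJ
  have hs : Ideal.span (s : Set R) =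
      Ideal.span (Set.range ((↑) : s → R)) := by
    simp
  rw [hs] at hd ⊢
  choose c hc hdc using fun k => exists_sum_of_mem_smul ((↑) : s → R) (N k) (hd k)
  choose C hC using fun i : s =>
    exists_series_tendsto (hN.tendsto (d := fun k => c k i) fun k => hc k i)
  refine ⟨∑ i : s, (i : R) • C i, Submodule.sum_mem _ fun i _ => Submodule.smul_mem_smul
    (Ideal.subset_span ⟨i, rfl⟩) (hN₀.mem_of_tendsto (hC i) (Eventually.of_forall fun m =>
      N₀.sum_mem fun k _ => hle k (hc k i))), ?_⟩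
  have : (fun n => ∑ k ∈ Finset.range n, d k) =
      fun n => ∑ i : s, (i : R) • ∑ k ∈ Finset.range n, c k i := by
    funext n
    simp only [hdc, Finset.smul_sum]
    exact Finset.sum_comm
  rw [this]
  exact tendsto_finsetSum _ fun i _ => (hC i).const_smul _

/-- If `Q k ⊆ J • N k + Q (k + 1)` and `Q`, `N` shrink to zero, then `Q 0 ⊆ J • N₀`. -/
theorem le_smul_of_approx {J : Ideal R} (hJ : J.FG) (N : ℕ → Submodule R M)
    (hN : Shrinks fun k => (N k : Set M)) (N₀ : Submodule R M) (hN₀ : IsClosed (N₀ : Set M))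
    (hle : ∀ k, N k ≤ N₀) (Q : ℕ → Submodule R M) (hQ : Shrinks fun k => (Q k : Set M))
    (happrox : ∀ k, Q k ≤ J • N k ⊔ Q (k + 1)) : Q 0 ≤ J • N₀ := by
  intro x hx
  have step : ∀ k, ∀ y ∈ Q k, ∃ d ∈ J • N k, y - d ∈ Q (k + 1) := by
    intro k y hy
    obtain ⟨d, hd, q, hq, rfl⟩ := Submodule.mem_sup.1 (happrox k hy)
    exact ⟨d, hd, by simpa using hq⟩
  choose! D hD hD' using step
  let r : ℕ → M := Nat.rec x fun k y => y - D k y
  have hr : ∀ k, r k ∈ Q k := by
    intro k
    induction k with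
    | zero => exact hx
    | succ k ih => exact hD' k _ ih
  obtain ⟨L, hL, hL'⟩ := series_mem_smul hJ N hN N₀ hN₀ hle (d := fun k => D k (r k))
    fun k => hD k _ (hr k)
  have hre : ∀ m, ∑ i ∈ Finset.range m, D i (r i) = x - r m := by
    intro m
    induction m with
    | zero => simp [r]
    | succ m ih =>
      rw [Finset.sum_range_succ, ih]
      show _ = x - (r m - D m (r m))
      abel
  have : Tendsto (fun m => ∑ i ∈ Finset.range m, D i (r i)) atTop (𝓝 x) := by
    simpa [hre] using tendsto_const_nhds.sub (hQ.tendsto hr)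
  exact tendsto_nhds_unique hL' this ▸ hL

end Module

end LinTopLib
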