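import Mathlib
import Groth.Prelude.Def_W4stk3formalspacesTaut

/-! Basic lemmas about linearly topologized rings. -/

set_option autoImplicit false
set_option linter.unusedSectionVars false
open Topology Filter

namespace LinTopLib

universe u v

variable {A : Type u} [CommRing A] [TopologicalSpace A] [IsTopologicalRing A]

theorem isOpen_of_le {I J : Ideal A} (hI : IsOpen (I : Set A)) (h : I ≤ J) :
    IsOpen (J : Set A) :=
  AddSubgroup.isOpen_mono (H₁ := I.toAddSubgroup) (H₂ := J.toAddSubgroup) h hI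

theorem isClosed_of_isOpen {I : Ideal A} (hI : IsOpen (I : Set A)) : IsClosed (I : Set A) :=
  AddSubgroup.isClosed_of_isOpen I.toAddSubgroup hI

theorem isOpen_inf {I J : Ideal A} (hI : IsOpen (I : Set A)) (hJ : IsOpen (J : Set A)) :
    IsOpen ((I ⊓ J : Ideal A) : Set A) := hI.inter hJ

theorem isOpen_top : IsOpen ((⊤ : Ideal A) : Set A) := isOpen_univ

theorem le_closure (N : Ideal A) : N ≤ N.closure := fun _ hx => subset_closure hx

theorem closure_le_of_isClosed {N U : Ideal A} (hU : IsClosed (U : Set A)) (h : N ≤ U) :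
    N.closure ≤ U := fun _ hx => closure_minimal h hU hx

theorem closure_le_of_isOpen {N U : Ideal A} (hU : IsOpen (U : Set A)) (h : N ≤ U) :
    N.closure ≤ U := closure_le_of_isClosed (isClosed_of_isOpen hU) h

theorem closure_mono {M N : Ideal A} (h : M ≤ N) : M.closure ≤ N.closure :=
  fun _ hx => _root_.closure_mono h hx

theorem closure_le_sup {N U : Ideal A} (hU : IsOpen (U : Set A)) : N.closure ≤ N ⊔ U :=
  closure_le_of_isOpen (isOpen_of_le hU le_sup_right) le_sup_left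

theorem mem_closure_iff [IsLinearTopology A A] {N : Ideal A} {x : A} :
    x ∈ N.closure ↔ ∀ U : Ideal A, IsOpen (U : Set A) → x ∈ N ⊔ U := by
  refine ⟨fun hx U hU => closure_le_sup hU hx, fun h => ?_⟩
  show x ∈ closure (N : Set A)
  rw [mem_closure_iff_nhds]
  intro t ht
  have h0 : (fun y => x - y) ⁻¹' t ∈ 𝓝 (0 : A) :=
    (continuous_const.sub continuous_id).continuousAt.preimage_mem_nhds (by simpa using ht)
  obtain ⟨U, hU, hUt⟩ := IsLinearTopology.hasBasis_open_ideal.mem_iff.1 h0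
  obtain ⟨n, hn, u, hu, hx⟩ := Submodule.mem_sup.1 (h U hU)
  refine ⟨x - u, hUt hu, ?_⟩
  rw [← hx, add_sub_cancel_right]
  exact hn

theorem closure_mul_closure (I J : Ideal A) : I.closure * J.closure ≤ (I * J).closure :=
  Ideal.mul_le.2 fun _ hr _ hs =>
    map_mem_closure₂ continuous_mul hr hs fun _ ha _ hb => Ideal.mul_mem_mul ha hb

theorem closure_pow_le (I : Ideal A) : ∀ n, I.closure ^ n ≤ (I ^ n).closure
  | 0 => by
    intro x _
    exact le_closure _ (by simp)
  | n + 1 => by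
    rw [pow_succ, pow_succ]
    exact (Ideal.mul_mono (closure_pow_le I n) le_rfl).trans (closure_mul_closure _ _)

theorem sup_pow_le {R : Type*} [CommRing R] (I J : Ideal R) :
    ∀ n, (I ⊔ J) ^ n ≤ I ⊔ J ^ n
  | 0 => by simp
  | n + 1 => by
    rw [pow_succ, pow_succ]
    refine (Ideal.mul_mono (sup_pow_le I J n) le_rfl).trans ?_
    rw [Ideal.sup_mul, Ideal.mul_sup, Ideal.mul_sup]
    exact sup_le (le_sup_of_le_left (sup_le Ideal.mul_le_left Ideal.mul_le_left))
      (sup_le (le_sup_of_le_left Ideal.mul_le_right) le_sup_right)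

/-- The powers of `I` tend to zero. -/
def Small (I : Ideal A) : Prop :=
  ∀ U : Ideal A, IsOpen (U : Set A) → ∃ n : ℕ, I ^ n ≤ U

theorem Small.exists_pos {I : Ideal A} (h : Small I) {U : Ideal A} (hU : IsOpen (U : Set A)) :
    ∃ n : ℕ, 0 < n ∧ I ^ n ≤ U := by
  obtain ⟨n, hn⟩ := h U hU
  exact ⟨n + 1, n.succ_pos, (Ideal.pow_le_pow_right n.le_succ).trans hn⟩

theorem Small.mono {I J : Ideal A} (h : Small I) (hJ : J ≤ I) : Small J := fun U hU =>
  let ⟨n, hn⟩ := h U hU
  ⟨n, (Ideal.pow_right_mono hJ n).trans hn⟩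

theorem Small.closure {I : Ideal A} (h : Small I) : Small I.closure := fun U hU =>
  let ⟨n, hn⟩ := h U hU
  ⟨n, (closure_pow_le I n).trans (closure_le_of_isOpen hU hn)⟩

theorem Small.of_pow_le {I J : Ideal A} {n : ℕ} (h : Small I) (hJ : J ^ n ≤ I) : Small J :=
  fun U hU =>
    let ⟨m, hm⟩ := h U hU
    ⟨n * m, (pow_mul J n m).le.trans ((Ideal.pow_right_mono hJ m).trans hm)⟩

theorem Small.sup_of_pow_le {I J : Ideal A} {n : ℕ} (h : Small I) (hJ : J ^ n ≤ I) :
    Small (I ⊔ J) :=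
  h.of_pow_le ((sup_pow_le I J n).trans (sup_le le_rfl hJ))

theorem idealOfDef_iff [IsLinearTopology A A] {I : Ideal A} :
    LinTop.IsIdealOfDefinition A I ↔ IsOpen (I : Set A) ∧ Small I := by
  refine ⟨fun h => ⟨h.1, fun U hU => ?_⟩, fun h => ⟨h.1, fun V hV => ?_⟩⟩
  · obtain ⟨n, _, hn⟩ := h.2 _ (hU.mem_nhds U.zero_mem)
    exact ⟨n, hn⟩
  · obtain ⟨U, hU, hUV⟩ := IsLinearTopology.hasBasis_open_ideal.mem_iff.1 hV
    obtain ⟨n, hn, hn'⟩ := h.2.exists_pos hU
    exact ⟨n, hn, fun x hx => hUV (hn' hx)⟩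

theorem small_of_isIdealOfDefinition {I : Ideal A} (h : LinTop.IsIdealOfDefinition A I) :
    Small I := fun U hU =>
  let ⟨n, _, hn⟩ := h.2 _ (hU.mem_nhds U.zero_mem)
  ⟨n, hn⟩

theorem topNil_iff [IsLinearTopology A A] {x : A} :
    IsTopologicallyNilpotent x ↔ ∀ U : Ideal A, IsOpen (U : Set A) → ∃ n : ℕ, x ^ n ∈ U := by
  refine ⟨fun h U hU => h.exists_pow_mem_of_mem_nhds (hU.mem_nhds U.zero_mem), fun h => ?_⟩
  refine (atTop_basis.tendsto_iff IsLinearTopology.hasBasis_open_ideal).2 fun U hU => ?_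
  obtain ⟨n, hn⟩ := h U hU
  exact ⟨n, trivial, fun m hm => U.pow_mem_of_pow_mem hn hm⟩

theorem topNil_of_small [IsLinearTopology A A] {I : Ideal A} (h : Small I) {x : A} (hx : x ∈ I) :
    IsTopologicallyNilpotent x :=
  topNil_iff.2 fun U hU =>
    let ⟨n, hn⟩ := h U hU
    ⟨n, hn (Ideal.pow_mem_pow hx n)⟩

theorem small_of_fg [IsLinearTopology A A] {I : Ideal A} (hI : I.FG)
    (h : ∀ f ∈ I, IsTopologicallyNilpotent f) : Small I := fun U hU =>
  Ideal.exists_pow_le_of_le_radical_of_fg (fun f hf => topNil_iff.1 (h f hf) U hU) hI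

theorem isClosed_topologicalNilradical [IsLinearTopology A A] :
    IsClosed ((topologicalNilradical A : Ideal A) : Set A) := by
  have : ((topologicalNilradical A : Ideal A) : Set A) =
      ⋂ (U : Ideal A) (_ : IsOpen (U : Set A)), ((U.radical : Ideal A) : Set A) := by
    ext x
    simp only [SetLike.mem_coe, Set.mem_iInter, IsTopologicallyNilpotent.mem_topologicalNilradical_iff,
      topNil_iff, Ideal.mem_radical_iff]
  rw [this]
  exact isClosed_iInter fun U => isClosed_iInter fun hU =>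
    isClosed_of_isOpen (isOpen_of_le hU Ideal.le_radical)

theorem isLinearTopology_of_isAdic {J : Ideal A} (hJ : IsAdic J) : IsLinearTopology A A :=
  IsLinearTopology.mk_of_hasBasis' A (s := fun n : ℕ => J ^ n) hJ.hasBasis_nhds_zero
    (fun s r _ hm => s.mul_mem_left r hm)

theorem isLinearTopology_of_isPreadic (h : LinTop.IsPreadic A) : IsLinearTopology A A :=
  let ⟨_, hJ⟩ := h
  isLinearTopology_of_isAdic hJ

theorem small_of_isAdic {J : Ideal A} (hJ : IsAdic J) : Small J := fun U hU =>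
  let ⟨n, hn⟩ := (isAdic_iff.1 hJ).2 _ (hU.mem_nhds U.zero_mem)
  ⟨n, hn⟩

theorem isOpen_of_isAdic {J : Ideal A} (hJ : IsAdic J) : IsOpen (J : Set A) := by
  simpa using (isAdic_iff.1 hJ).1 1

theorem isIdealOfDefinition_of_isAdic {J : Ideal A} (hJ : IsAdic J) :
    LinTop.IsIdealOfDefinition A J := by
  have := isLinearTopology_of_isAdic hJ
  exact idealOfDef_iff.2 ⟨isOpen_of_isAdic hJ, small_of_isAdic hJ⟩

theorem isAdic_of_idealOfDef {J I : Ideal A} (hJ : IsAdic J)
    (hI : LinTop.IsIdealOfDefinition A I) : IsAdic I := by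
  have hJ' := isAdic_iff.1 hJ
  obtain ⟨m, hm⟩ := hJ'.2 _ (hI.1.mem_nhds I.zero_mem)
  refine isAdic_iff.2 ⟨fun n => isOpen_of_le (hJ'.1 (m * n)) ?_, fun s hs => ?_⟩
  · rw [pow_mul]
    exact Ideal.pow_right_mono hm n
  · obtain ⟨n, _, hn⟩ := hI.2 s hs
    exact ⟨n, hn⟩

section Hom

variable {B : Type v} [CommRing B] [TopologicalSpace B] [IsTopologicalRing B]

theorem map_closure_le {φ : A →+* B} (hφ : Continuous φ) (I : Ideal A) :
    I.closure.map φ ≤ (I.map φ).closure :=
  Ideal.map_le_iff_le_comap.2 fun _ hx =>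
    map_mem_closure hφ hx fun _ ha => Ideal.mem_map_of_mem φ ha

theorem isOpen_comap {φ : A →+* B} (hφ : Continuous φ) {U : Ideal B} (hU : IsOpen (U : Set B)) :
    IsOpen ((U.comap φ : Ideal A) : Set A) := hU.preimage hφ

theorem isTaut_mk [IsLinearTopology B B] {φ : A →+* B} (hφ : Continuous φ)
    (h : ∀ I : Ideal A, IsOpen (I : Set A) → IsOpen ((I.map φ).closure : Set B)) :
    LinTop.IsTaut φ := by
  refine ⟨hφ, h, fun V hV => ?_⟩
  obtain ⟨U, hU, hUV⟩ := IsLinearTopology.hasBasis_open_ideal.mem_iff.1 hV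
  exact ⟨U.comap φ, isOpen_comap hφ hU,
    fun x hx => hUV (closure_le_of_isOpen hU Ideal.map_comap_le hx)⟩

theorem Small.map {φ : A →+* B} (hφ : Continuous φ) {I : Ideal A} (h : Small I) :
    Small (I.map φ) := fun U hU =>
  let ⟨n, hn⟩ := h _ (isOpen_comap hφ hU)
  ⟨n, (Ideal.map_pow φ I n).symm.le.trans (Ideal.map_le_iff_le_comap.2 hn)⟩

theorem comap_closure_map_le {φ : A →+* B} (hφ : LinTop.IsTautFFlat φ) {I : Ideal A}
    (hI : IsOpen (I : Set A)) : (I.map φ).closure.comap φ ≤ I := by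
  intro x hx
  have h := (hφ.2 I hI).injective
  rw [← Ideal.Quotient.eq_zero_iff_mem]
  apply h
  rw [map_zero, LinTop.descentMap, Ideal.quotientMap_mk, Ideal.Quotient.eq_zero_iff_mem]
  exact hx

end Hom

end LinTopLib
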