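import Groth.Agent.LinTopLib.Basic
import Groth.Agent.LinTopLib.Approx

/-! Complete linearly topologized rings. -/

set_option autoImplicit false
set_option linter.unusedSectionVars false
open Topology Filter

namespace LinTopLib

universe u v

theorem nonarchimedean (R : Type u) {M : Type v} [Ring R] [AddCommGroup M] [Module R M]
    [TopologicalSpace M] [IsTopologicalAddGroup M] [IsLinearTopology R M] :
    NonarchimedeanAddGroup M where
  is_nonarchimedean _ hU :=
    let ⟨N, hN, hNU⟩ := (IsLinearTopology.hasBasis_open_submodule R).mem_iff.1 hU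
    ⟨⟨N.toAddSubgroup, hN⟩, hNU⟩

variable {A : Type u} [CommRing A] [UniformSpace A] [IsUniformAddGroup A] [IsTopologicalRing A]
  [IsLinearTopology A A]

theorem shrinks_pow {I : Ideal A} (h : Small I) :
    Shrinks fun k => (((I ^ k).closure : Ideal A) : Set A) := fun V hV => by
  obtain ⟨U, hU, hUV⟩ := IsLinearTopology.hasBasis_open_ideal.mem_iff.1 hV
  obtain ⟨n, hn⟩ := h U hU
  exact ⟨n, fun k hk x hx => hUV (closure_le_of_isOpen hU ((Ideal.pow_le_pow_right hk).trans hn) hx)⟩

variable [T2Space A] [CompleteSpace A]

/-- A complete separated linearly topologized ring is adically complete along every finitely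
generated ideal with powers tending to zero. -/
theorem isAdicComplete_of_small {I : Ideal A} (hI : I.FG) (h : Small I) : IsAdicComplete I A := by
  have := nonarchimedean A (M := A)
  have hsub : ∀ (n : ℕ), (I ^ n • ⊤ : Submodule A A) = I ^ n := fun n => by
    rw [smul_eq_mul, Ideal.mul_top]
  exact
  { haus' := fun x hx => by
      have h0 : Tendsto (fun _ : ℕ => x) atTop (𝓝 0) := (shrinks_pow h).tendsto fun n =>
        le_closure _ (by simpa [SModEq.sub_mem, hsub] using hx n)
      exact tendsto_const_nhds_iff.1 h0
    prec' := fun f hf => by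
      have hf' : ∀ {m n}, m ≤ n → f n - f m ∈ I ^ m := fun {m n} hmn => by
        have := hf hmn
        rw [SModEq.sub_mem, hsub] at this
        simpa using (I ^ m).neg_mem this
      have key : ∀ m, ∃ L ∈ (I ^ m : Ideal A), Tendsto (fun k => f (m + k) - f m) atTop (𝓝 L) := by
        intro m
        obtain ⟨L, hL, hL'⟩ := series_mem_smul (Submodule.FG.pow hI m)
          (fun k => ((I ^ k).closure : Ideal A)) (shrinks_pow h) ⊤ isClosed_univ (fun _ => le_top)
          (d := fun k => f (m + (k + 1)) - f (m + k)) fun k => by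
            refine Submodule.smul_mono le_rfl (le_closure _) ?_
            rw [smul_eq_mul, ← pow_add]
            exact hf' (by omega : m + k ≤ m + (k + 1))
        refine ⟨L, by simpa [hsub] using hL, ?_⟩
        simpa [Finset.sum_range_sub (fun k => f (m + k))] using hL'
      obtain ⟨L, _, hL⟩ := key 0
      refine ⟨f 0 + L, fun m => ?_⟩
      obtain ⟨Lm, hLm, hLm'⟩ := key m
      have h1 : Tendsto f atTop (𝓝 (f 0 + L)) := by simpa using hL.const_add (f 0)
      have h2 : Tendsto (fun k => f (m + k)) atTop (𝓝 (f m + Lm)) := by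
        simpa using hLm'.const_add (f m)
      have h3 := tendsto_nhds_unique h2 (h1.comp
        (tendsto_atTop_mono (fun k => (Nat.le_add_left k m : id k ≤ m + k)) tendsto_id))
      rw [SModEq.sub_mem, hsub, ← h3]
      simpa using (I ^ m).neg_mem hLm }

theorem isUnit_one_add {x : A} (hx : IsTopologicallyNilpotent x) (y : A) :
    IsUnit (x * y + 1) := by
  have hx' : ∀ f ∈ Ideal.span {x}, IsTopologicallyNilpotent f := fun f hf => by
    obtain ⟨c, rfl⟩ := Ideal.mem_span_singleton'.1 hf
    exact hx.mul_left c
  have := isAdicComplete_of_small (I := Ideal.span {x}) ⟨{x}, by simp⟩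
    (small_of_fg ⟨{x}, by simp⟩ hx')
  exact Ideal.mem_jacobson_bot.1
    (IsAdicComplete.le_jacobson_bot (I := Ideal.span {x}) (Ideal.mem_span_singleton_self x)) y

theorem le_jacobson_bot {I : Ideal A} (hI : ∀ f ∈ I, IsTopologicallyNilpotent f) :
    I ≤ (⊥ : Ideal A).jacobson := fun f hf =>
  Ideal.mem_jacobson_bot.2 (isUnit_one_add (hI f hf))

/-- If the closures of the powers of a finitely generated ideal form a basis of open
neighbourhoods of zero, the topology is adic. -/
theorem isAdic_of_closure {I : Ideal A} (hI : I.FG)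
    (hopen : ∀ n : ℕ, IsOpen ((I ^ n).closure : Set A)) (h : Small I) : IsAdic I := by
  have := nonarchimedean A (M := A)
  refine isAdic_iff.2 ⟨fun n => isOpen_of_le (hopen n) ?_, fun s hs => ?_⟩
  · refine (le_smul_of_approx (Submodule.FG.pow hI n) (fun k => ((I ^ k).closure : Ideal A))
      (shrinks_pow h) ⊤ isClosed_univ (fun _ => le_top)
      (fun k => ((I ^ (n + k)).closure : Ideal A)) ?_ fun k => ?_).trans (by simp)
    · intro V hV
      obtain ⟨m, hm⟩ := shrinks_pow h V hV
      exact ⟨m, fun k hk => hm (n + k) (by omega)⟩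
    · refine (closure_le_sup (hopen (n + (k + 1)))).trans (sup_le_sup_right ?_ _)
      rw [smul_eq_mul, pow_add]
      exact Ideal.mul_mono le_rfl (le_closure _)
  · obtain ⟨U, hU, hUs⟩ := IsLinearTopology.hasBasis_open_ideal.mem_iff.1 hs
    obtain ⟨n, hn⟩ := h U hU
    exact ⟨n, fun x hx => hUs (hn hx)⟩

end LinTopLib
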