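import Groth.Agent.LinTopLib.Complete

/-! Completion of linearly topologized rings. -/

set_option autoImplicit false
set_option linter.unusedSectionVars false
open Topology Filter

namespace LinTopLib

universe u

variable {A : Type u} [CommRing A] [UniformSpace A] [IsUniformAddGroup A] [IsTopologicalRing A]

open UniformSpace

/-- The closure of the image of an ideal in the completion. -/
noncomputable def hatIdeal (U : Ideal A) : Ideal (Completion A) :=
  (U.map (Completion.coeRingHom : A →+* Completion A)).closure

theorem coe_hatIdeal (U : Ideal A) :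
    (hatIdeal U : Set (Completion A)) = closure ((↑) '' (U : Set A)) := by
  refine Set.Subset.antisymm (closure_minimal ?_ isClosed_closure)
    (_root_.closure_mono ?_)
  · have h0 : (0 : Completion A) ∈ closure ((↑) '' (U : Set A)) :=
      subset_closure ⟨0, U.zero_mem, Completion.coe_zero⟩
    let K : Ideal (Completion A) :=
    { carrier := closure ((↑) '' (U : Set A))
      zero_mem' := h0
      add_mem' := fun ha hb => map_mem_closure₂ continuous_add ha hb (by
        rintro _ ⟨a, ha, rfl⟩ _ ⟨b, hb, rfl⟩
        exact ⟨a + b, U.add_mem ha hb, Completion.coe_add a b⟩)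
      smul_mem' := fun c x hx => by
        have hc : c ∈ closure (Set.range ((↑) : A → Completion A)) := Completion.denseRange_coe c
        exact map_mem_closure₂ continuous_mul hc hx (by
          rintro _ ⟨a, rfl⟩ _ ⟨b, hb, rfl⟩
          exact ⟨a * b, U.mul_mem_left a hb, Completion.coe_mul a b⟩) }
    exact (Ideal.map_le_iff_le_comap (f := (Completion.coeRingHom : A →+* Completion A))
      (K := K)).2 fun x hx => (subset_closure ⟨x, hx, rfl⟩ : (x : Completion A) ∈ closure ((↑) '' (U : Set A)))
  · rintro _ ⟨a, ha, rfl⟩
    exact Ideal.mem_map_of_mem (Completion.coeRingHom : A →+* Completion A) ha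

theorem isOpen_hatIdeal {U : Ideal A} (hU : IsOpen (U : Set A)) :
    IsOpen (hatIdeal U : Set (Completion A)) := by
  refine AddSubgroup.isOpen_of_mem_nhds (hatIdeal U).toAddSubgroup (g := 0) ?_
  show (hatIdeal U : Set (Completion A)) ∈ 𝓝 _
  rw [coe_hatIdeal, ← Completion.coe_zero]
  exact Completion.isDenseInducing_coe.closure_image_mem_nhds (hU.mem_nhds U.zero_mem)

variable [IsLinearTopology A A]

theorem hasBasis_hatIdeal : (𝓝 (0 : Completion A)).HasBasis
    (fun U : Ideal A => IsOpen (U : Set A)) (fun U => (hatIdeal U : Set (Completion A))) := by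
  simp only [coe_hatIdeal]
  rw [← Completion.coe_zero]
  exact (IsLinearTopology.hasBasis_open_ideal (R := A)).hasBasis_of_isDenseInducing
    Completion.isDenseInducing_coe

theorem isLinearTopology_completion : IsLinearTopology (Completion A) (Completion A) :=
  IsLinearTopology.mk_of_hasBasis' _ hasBasis_hatIdeal fun s r _ hm => s.mul_mem_left r hm

theorem isTaut_coe : LinTop.IsTaut (Completion.coeRingHom : A →+* Completion A) := by
  have := isLinearTopology_completion (A := A)
  exact isTaut_mk Completion.continuous_coeRingHom fun _ hU => isOpen_hatIdeal hU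

end LinTopLib
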