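import Groth.Agent.LinTopLib.Completion

/-! Ideals of definition, taut maps: structural lemmas. -/

set_option autoImplicit false
set_option linter.unusedSectionVars false
open Topology Filter

namespace LinTopLib

universe u v

variable {A : Type u} [CommRing A] [TopologicalSpace A] [IsTopologicalRing A] [IsLinearTopology A A]

theorem isIdealOfDefinition_sup {I I' : Ideal A} (hI : LinTop.IsIdealOfDefinition A I) {n : ℕ}
    (h : I' ^ n ≤ I) : LinTop.IsIdealOfDefinition A (I ⊔ I') :=
  idealOfDef_iff.2 ⟨isOpen_of_le hI.1 le_sup_left,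
    (small_of_isIdealOfDefinition hI).sup_of_pow_le h⟩

theorem topNil_iff_pow_mem {I : Ideal A} (hI : LinTop.IsIdealOfDefinition A I) {x : A} :
    IsTopologicallyNilpotent x ↔ ∃ n : ℕ, x ^ n ∈ I := by
  refine ⟨fun h => topNil_iff.1 h I hI.1, fun ⟨n, hn⟩ => topNil_iff.2 fun U hU => ?_⟩
  obtain ⟨m, hm⟩ := small_of_isIdealOfDefinition hI U hU
  exact ⟨n * m, hm (by rw [pow_mul]; exact Ideal.pow_mem_pow hn m)⟩

theorem exists_idealOfDef_mem {I : Ideal A} (hI : LinTop.IsIdealOfDefinition A I) {x : A}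
    (hx : IsTopologicallyNilpotent x) :
    ∃ J : Ideal A, LinTop.IsIdealOfDefinition A J ∧ x ∈ J := by
  obtain ⟨n, hn⟩ := (topNil_iff_pow_mem hI).1 hx
  exact ⟨_, isIdealOfDefinition_sup hI (I' := Ideal.span {x}) (n := n)
    (by rwa [Ideal.span_singleton_pow, Ideal.span_singleton_le_iff_mem]),
    le_sup_right (a := I) (Ideal.mem_span_singleton_self x)⟩

theorem map_mk_topologicalNilradical {I : Ideal A} (hI : LinTop.IsIdealOfDefinition A I) :
    (topologicalNilradical A).map (Ideal.Quotient.mk I) = nilradical (A ⧸ I) := by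
  refine le_antisymm (Ideal.map_le_iff_le_comap.2 fun x hx => ?_) fun y hy => ?_
  · obtain ⟨n, hn⟩ := (topNil_iff_pow_mem hI).1
      (IsTopologicallyNilpotent.mem_topologicalNilradical_iff.1 hx)
    exact ⟨n, by rw [← map_pow]; exact Ideal.Quotient.eq_zero_iff_mem.2 hn⟩
  · obtain ⟨x, rfl⟩ := Ideal.Quotient.mk_surjective y
    obtain ⟨n, hn⟩ := hy
    rw [← map_pow] at hn
    exact Ideal.mem_map_of_mem _ (IsTopologicallyNilpotent.mem_topologicalNilradical_iff.2
      ((topNil_iff_pow_mem hI).2 ⟨n, Ideal.Quotient.eq_zero_iff_mem.1 hn⟩))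

theorem exists_largest_iff {I : Ideal A} (hI : LinTop.IsIdealOfDefinition A I) :
    ((∃ I₀ : Ideal A, LinTop.IsIdealOfDefinition A I₀ ∧
        ∀ J : Ideal A, LinTop.IsIdealOfDefinition A J → J ≤ I₀) ↔
        IsNilpotent (nilradical (A ⧸ I))) ∧
      ∀ I₀ : Ideal A, LinTop.IsIdealOfDefinition A I₀ →
        (∀ J : Ideal A, LinTop.IsIdealOfDefinition A J → J ≤ I₀) →
        I₀ = topologicalNilradical A := by
  have key : ∀ I₀ : Ideal A, LinTop.IsIdealOfDefinition A I₀ →
      (∀ J : Ideal A, LinTop.IsIdealOfDefinition A J → J ≤ I₀) →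
      I₀ = topologicalNilradical A := by
    intro I₀ h₀ hmax
    refine le_antisymm (fun x hx => IsTopologicallyNilpotent.mem_topologicalNilradical_iff.2
      (topNil_of_small (small_of_isIdealOfDefinition h₀) hx)) fun x hx => ?_
    obtain ⟨J, hJ, hxJ⟩ := exists_idealOfDef_mem hI
      (IsTopologicallyNilpotent.mem_topologicalNilradical_iff.1 hx)
    exact hmax J hJ hxJ
  refine ⟨⟨fun ⟨I₀, h₀, hmax⟩ => ?_, fun ⟨n, hn⟩ => ?_⟩, key⟩
  · obtain ⟨n, hn⟩ := small_of_isIdealOfDefinition h₀ I hI.1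
    refine ⟨n, ?_⟩
    rw [← map_mk_topologicalNilradical hI, ← key I₀ h₀ hmax, ← Ideal.map_pow]
    exact (Ideal.map_eq_bot_iff_le_ker _).2 (by rwa [Ideal.mk_ker])
  · rw [← map_mk_topologicalNilradical hI, ← Ideal.map_pow] at hn
    have hle : topologicalNilradical A ^ n ≤ I := by
      simpa [Ideal.mk_ker] using (Ideal.map_eq_bot_iff_le_ker _).1 hn
    refine ⟨topologicalNilradical A, idealOfDef_iff.2 ⟨isOpen_of_le hI.1 fun x hx =>
      IsTopologicallyNilpotent.mem_topologicalNilradical_iff.2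
        (topNil_of_small (small_of_isIdealOfDefinition hI) hx),
      (small_of_isIdealOfDefinition hI).of_pow_le hle⟩, fun J hJ x hx =>
      IsTopologicallyNilpotent.mem_topologicalNilradical_iff.2
        (topNil_of_small (small_of_isIdealOfDefinition hJ) hx)⟩

section Hom

variable {B : Type v} [CommRing B] [TopologicalSpace B] [IsTopologicalRing B] [IsLinearTopology B B]
  {φ : A →+* B}

theorem Small.closure_map (hφ : Continuous φ) {I : Ideal A} (h : Small I) :
    Small (I.map φ).closure := (h.map hφ).closure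

theorem isIdealOfDefinition_closure_map (hφ : LinTop.IsTaut φ) {I : Ideal A}
    (hI : LinTop.IsIdealOfDefinition A I) : LinTop.IsIdealOfDefinition B (I.map φ).closure :=
  idealOfDef_iff.2 ⟨hφ.2.1 I hI.1, (small_of_isIdealOfDefinition hI).closure_map hφ.1⟩

/-- For a taut map, closures of powers of the image of an ideal with open closures of powers
are open. -/
theorem isOpen_closure_map_pow (hφ : LinTop.IsTaut φ) {I : Ideal A} {n : ℕ}
    (hI : IsOpen ((I ^ n).closure : Set A)) : IsOpen (((I.map φ) ^ n).closure : Set B) := by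
  refine isOpen_of_le (hφ.2.1 _ hI) (closure_le_of_isClosed isClosed_closure ?_)
  rw [← Ideal.map_pow]
  exact map_closure_le hφ.1 _

theorem isWeaklyPreadic_of_small {I : Ideal A}
    (ho : ∀ n, IsOpen ((I ^ n).closure : Set A)) (hs : Small I) : LinTop.IsWeaklyPreadic A :=
  ⟨inferInstance, I, ho, fun V hV => by
    obtain ⟨U, hU, hUV⟩ := IsLinearTopology.hasBasis_open_ideal.mem_iff.1 hV
    obtain ⟨n, hn⟩ := hs U hU
    exact ⟨n, fun x hx => hUV (closure_le_of_isOpen hU hn hx)⟩⟩

theorem exists_of_isWeaklyPreadic (h : LinTop.IsWeaklyPreadic A) :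
    ∃ I : Ideal A, (∀ n, IsOpen ((I ^ n).closure : Set A)) ∧ Small I := by
  obtain ⟨-, I, ho, hs⟩ := h
  refine ⟨I, ho, fun U hU => ?_⟩
  obtain ⟨n, hn⟩ := hs _ (hU.mem_nhds U.zero_mem)
  exact ⟨n, fun x hx => hn (subset_closure hx)⟩

/-- In a weakly preadic ring all closures of powers of ideals of definition are open. -/
theorem isOpen_closure_pow (h : LinTop.IsWeaklyPreadic A) {I : Ideal A}
    (hI : IsOpen (I : Set A)) (n : ℕ) : IsOpen ((I ^ n).closure : Set A) := by
  obtain ⟨K, ho, hs⟩ := exists_of_isWeaklyPreadic h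
  obtain ⟨m, hm⟩ := hs I hI
  refine isOpen_of_le (ho (m * n)) (closure_mono ?_)
  rw [pow_mul]
  exact Ideal.pow_right_mono hm n

theorem isWeaklyPreadic_map (hφ : LinTop.IsTaut φ) (h : LinTop.IsWeaklyPreadic A) :
    LinTop.IsWeaklyPreadic B := by
  obtain ⟨I, ho, hs⟩ := exists_of_isWeaklyPreadic h
  exact isWeaklyPreadic_of_small (fun n => isOpen_closure_map_pow hφ (ho n)) (hs.map hφ.1)

theorem isPreadmissible_of_isWeaklyPreadic (h : LinTop.IsWeaklyPreadic A) :
    LinTop.IsPreadmissible A := by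
  obtain ⟨I, ho, hs⟩ := exists_of_isWeaklyPreadic h
  exact ⟨inferInstance, I.closure, idealOfDef_iff.2 ⟨by simpa using ho 1, hs.closure⟩⟩

theorem isOpen_closure_pow_of_descent (hφ : LinTop.IsTautFFlat φ) {I : Ideal A} {n : ℕ}
    (h : IsOpen (((I.map φ) ^ n).closure : Set B)) : IsOpen ((I ^ n).closure : Set A) := by
  refine isOpen_of_le (isOpen_comap hφ.1.1 h) fun x hx => mem_closure_iff.2 fun U hU => ?_
  refine comap_closure_map_le hφ (isOpen_of_le hU le_sup_right) ?_
  refine closure_mono ?_ hx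
  rw [← Ideal.map_pow]
  exact Ideal.map_mono le_sup_left

end Hom

end LinTopLib

namespace LinTopLib

theorem isOpen_closure_map {A B : Type*} [CommRing A] [TopologicalSpace A] [CommRing B]
    [TopologicalSpace B] [IsTopologicalRing B] {φ : A →+* B} (hφ : LinTop.IsTaut φ) {I : Ideal A}
    (hI : IsOpen (I : Set A)) : IsOpen ((I.map φ).closure : Set B) := hφ.2.1 I hI

end LinTopLib
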