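import Groth.Agent.LinTopLib.Complete

/-! Open homomorphisms and completions of nonarchimedean groups. -/

set_option autoImplicit false
set_option linter.unusedSectionVars false
open Topology Filter

namespace LinTopLib

universe u v

theorem isOpenMap_of_nhds {G : Type v} {H : Type u} [AddCommGroup G] [AddCommGroup H]
    [TopologicalSpace G] [IsTopologicalAddGroup G] [TopologicalSpace H] [IsTopologicalAddGroup H]
    (φ : G →+ H) (h : ∀ V ∈ 𝓝 (0 : G), φ '' V ∈ 𝓝 (0 : H)) : IsOpenMap φ := by
  refine IsOpenMap.of_nhds_le fun x => ?_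
  intro s hs
  rw [Filter.mem_map] at hs
  have h0 : (fun y => x + y) ⁻¹' (φ ⁻¹' s) ∈ 𝓝 (0 : G) :=
    (continuous_const.add continuous_id).continuousAt.preimage_mem_nhds (by simpa using hs)
  rw [← map_add_left_nhds_zero (φ x), Filter.mem_map]
  refine mem_of_superset (h _ h0) ?_
  rintro _ ⟨y, hy, rfl⟩
  show φ x + φ y ∈ s
  rw [← map_add]
  exact hy

theorem surjective_of_denseRange_of_isOpenMap {G : Type v} {H : Type u} [AddCommGroup G]
    [AddCommGroup H] [TopologicalSpace G] [TopologicalSpace H] [IsTopologicalAddGroup H]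
    (φ : G →+ H) (hd : DenseRange φ) (ho : IsOpenMap φ) : Function.Surjective φ := by
  have hopen : IsOpen (φ.range : Set H) := by
    simpa [AddMonoidHom.coe_range] using ho.isOpen_range
  have := AddSubgroup.isClosed_of_isOpen φ.range hopen
  rw [AddMonoidHom.coe_range] at this
  exact Set.range_eq_univ.1 (by rw [← this.closure_eq, hd.closure_range])

/-- A continuous open surjective image of a complete first countable nonarchimedean group is
complete. -/
theorem completeSpace_of_surjective {G : Type v} {H : Type u} [AddCommGroup G] [AddCommGroup H]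
    [UniformSpace G] [IsUniformAddGroup G] [NonarchimedeanAddGroup G] [CompleteSpace G]
    [UniformSpace H] [IsUniformAddGroup H] (φ : G →+ H) (hφ : Continuous φ) (ho : IsOpenMap φ)
    (hs : Function.Surjective φ) (U : ℕ → AddSubgroup G) (hUo : ∀ n, IsOpen (U n : Set G))
    (hU : (𝓝 (0 : G)).HasAntitoneBasis fun n => (U n : Set G)) : CompleteSpace H := by
  have hV : ∀ n, φ '' (U n : Set G) ∈ 𝓝 (0 : H) := fun n =>
    (ho _ (hUo n)).mem_nhds ⟨0, (U n).zero_mem, φ.map_zero⟩
  have : (𝓝 (0 : H)).IsCountablyGenerated := by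
    have h := hU.1.map φ
    rw [ho.map_nhds_eq hφ.continuousAt, map_zero] at h
    exact HasCountableBasis.isCountablyGenerated ⟨h, Set.to_countable _⟩
  have := IsUniformAddGroup.uniformity_countably_generated (α := H)
  refine UniformSpace.complete_of_cauchySeq_tendsto fun b hb => ?_
  have hb' : ∀ n, ∃ N, ∀ i j, N ≤ i → N ≤ j → b j - b i ∈ φ '' (U n : Set G) := by
    intro n
    have hE : {p : H × H | p.2 - p.1 ∈ φ '' (U n : Set G)} ∈ uniformity H := by
      rw [uniformity_eq_comap_nhds_zero H]
      exact preimage_mem_comap (hV n)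
    obtain ⟨N, hN⟩ := cauchySeq_iff.1 hb _ hE
    exact ⟨N, fun i j hi hj => hN i hi j hj⟩
  choose N hN using hb'
  let k : ℕ → ℕ := fun n => n + (Finset.range (n + 1)).sup N
  have hk : ∀ n, N n ≤ k n := fun n =>
    (Finset.le_sup (f := N) (Finset.self_mem_range_succ n)).trans (Nat.le_add_left _ _)
  have hk' : ∀ n, N n ≤ k (n + 1) := fun n =>
    (Finset.le_sup (f := N) (Finset.mem_range.2 (by omega))).trans (Nat.le_add_left _ _)
  choose d hd hd' using fun n => hN n (k n) (k (n + 1)) (hk n) (hk' n)
  have hshr : Shrinks fun n => (U n : Set G) :=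
    shrinks_of_antitone hU.2 fun V hV => by simpa using hU.1.mem_iff.1 hV
  obtain ⟨L, hL⟩ := exists_series_tendsto (hshr.tendsto hd)
  obtain ⟨a, ha⟩ := hs (b (k 0))
  refine ⟨φ (a + L), tendsto_nhds_of_cauchySeq_of_subseq hb
    (tendsto_atTop_mono (fun n => (Nat.le_add_right n _ : id n ≤ k n)) tendsto_id) ?_⟩
  have h1 : ∀ n, φ (a + ∑ i ∈ Finset.range n, d i) = b (k n) := by
    intro n
    simp only [map_add, map_sum, hd', ha, Finset.sum_range_sub (fun i => b (k i))]
    abel
  exact ((hφ.tendsto _).comp (hL.const_add a)).congr h1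

open UniformSpace

variable {M : Type v} [AddCommGroup M] [UniformSpace M] [IsUniformAddGroup M]

/-- The closure of the image of a subgroup in the completion. -/
noncomputable def hatGroup (V : AddSubgroup M) : AddSubgroup (Completion M) :=
  (V.map Completion.toCompl).topologicalClosure

theorem coe_hatGroup (V : AddSubgroup M) :
    (hatGroup V : Set (Completion M)) = closure ((↑) '' (V : Set M)) := rfl

theorem isOpen_hatGroup {V : AddSubgroup M} (hV : IsOpen (V : Set M)) :
    IsOpen (hatGroup V : Set (Completion M)) := by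
  refine AddSubgroup.isOpen_of_mem_nhds (hatGroup V) (g := 0) ?_
  show (hatGroup V : Set (Completion M)) ∈ 𝓝 _
  rw [coe_hatGroup, ← Completion.coe_zero]
  exact Completion.isDenseInducing_coe.closure_image_mem_nhds (hV.mem_nhds V.zero_mem)

theorem mem_of_coe_mem_hatGroup {V : AddSubgroup M} (hV : IsOpen (V : Set M)) {m : M}
    (h : (m : Completion M) ∈ hatGroup V) : m ∈ V := by
  have h' : m ∈ closure (V : Set M) := by
    rw [Completion.isDenseInducing_coe.isInducing.closure_eq_preimage_closure_image]
    exact h
  rwa [(AddSubgroup.isClosed_of_isOpen V hV).closure_eq] at h'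

theorem exists_coe_sub_mem {V : AddSubgroup M} (hV : IsOpen (V : Set M)) (x : Completion M) :
    ∃ m : M, x - m ∈ hatGroup V := by
  have hx : (fun y => x - y) ⁻¹' (hatGroup V : Set (Completion M)) ∈ 𝓝 x :=
    (continuous_const.sub continuous_id).continuousAt.preimage_mem_nhds
      (by simpa using (isOpen_hatGroup hV).mem_nhds (hatGroup V).zero_mem)
  obtain ⟨y, hy, m, rfl⟩ := mem_closure_iff_nhds.1 (Completion.denseRange_coe x) _ hx
  exact ⟨m, hy⟩

theorem hasBasis_hatGroup {ι : Type*} {p : ι → Prop} (V : ι → AddSubgroup M)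
    (h : (𝓝 (0 : M)).HasBasis p fun i => (V i : Set M)) :
    (𝓝 (0 : Completion M)).HasBasis p fun i => (hatGroup (V i) : Set (Completion M)) := by
  simp only [coe_hatGroup]
  rw [← Completion.coe_zero]
  exact h.hasBasis_of_isDenseInducing Completion.isDenseInducing_coe

variable {Q : Type u} [AddCommGroup Q] [UniformSpace Q] [IsUniformAddGroup Q]

theorem ker_completion (q : M →+ Q) (hq : Continuous q) (hqo : IsOpenMap q)
    (N : AddSubgroup M) (hN : q.ker = N) [NonarchimedeanAddGroup M] :
    Completion.map q ⁻¹' {0} = closure (Completion.toCompl '' (N : Set M)) := by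
  have hcoe : ∀ m : M, Completion.map q (m : Completion M) = (q m : Completion Q) := fun m =>
    Completion.map_coe (uniformContinuous_addMonoidHom_of_continuous hq) m
  refine Set.Subset.antisymm (fun x hx => ?_)
    (closure_minimal ?_ (isClosed_singleton.preimage Completion.continuous_map))
  · rw [mem_closure_iff_nhds]
    intro t ht
    have h0 : (fun y => x - y) ⁻¹' t ∈ 𝓝 (0 : Completion M) :=
      (continuous_const.sub continuous_id).continuousAt.preimage_mem_nhds (by simpa using ht)
    obtain ⟨C, ⟨hC, hCc⟩, hCt⟩ := (closed_nhds_basis (0 : Completion M)).mem_iff.1 h0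
    obtain ⟨V, hV⟩ := NonarchimedeanAddGroup.is_nonarchimedean _
      (Completion.continuous_toCompl.continuousAt.preimage_mem_nhds
        (show C ∈ 𝓝 (Completion.toCompl (0 : M)) by rwa [map_zero]))
    have hVo : IsOpen ((V : AddSubgroup M) : Set M) := V.isOpen'
    have hVC : (hatGroup (V : AddSubgroup M) : Set (Completion M)) ⊆ C :=
      closure_minimal (Set.image_subset_iff.2 hV) hCc
    obtain ⟨m, hm⟩ := exists_coe_sub_mem hVo x
    -- the image of `m` lies in `q V`
    have hqV : IsOpen ((((V : AddSubgroup M)).map q : AddSubgroup Q) : Set Q) := by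
      rw [AddSubgroup.coe_map]
      exact hqo _ hVo
    have h1 : (q m : Completion Q) ∈ hatGroup ((V : AddSubgroup M).map q) := by
      have h2 : Completion.map q (x - m) ∈ hatGroup ((V : AddSubgroup M).map q) := by
        refine map_mem_closure Completion.continuous_map hm ?_
        rintro _ ⟨v, hv, rfl⟩
        exact ⟨q v, ⟨v, hv, rfl⟩, (hcoe v).symm⟩
      have h3 : Completion.map q (x - m) = -(q m : Completion Q) := by
        show q.completion hq (x - m) = _
        have h4 : q.completion hq x = 0 := hx
        rw [map_sub, h4, q.completion_coe hq, zero_sub]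
      rw [h3] at h2
      simpa using (hatGroup _).neg_mem h2
    obtain ⟨v, hv, hqv⟩ := mem_of_coe_mem_hatGroup hqV h1
    refine ⟨Completion.toCompl (m - v), ?_, m - v, hN ▸ (by simp [AddMonoidHom.mem_ker, hqv]), rfl⟩
    have h5 : x - Completion.toCompl (m - v) ∈ C := hVC (by
      have : x - Completion.toCompl (m - v) = (x - m) + (v : Completion M) := by
        rw [map_sub]
        show x - ((m : Completion M) - v) = _
        abel
      rw [this]
      exact (hatGroup _).add_mem hm (subset_closure ⟨v, hv, rfl⟩))
    simpa using hCt h5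
  · rintro _ ⟨n, hn, rfl⟩
    show Completion.map q (n : Completion M) = 0
    rw [hcoe, show q n = 0 by rw [← AddMonoidHom.mem_ker, hN]; exact hn, Completion.coe_zero]

theorem surjective_completion (q : M →+ Q) (hq : Continuous q) (hqo : IsOpenMap q)
    (hqs : Function.Surjective q) [NonarchimedeanAddGroup M]
    (hc : (𝓝 (0 : M)).IsCountablyGenerated) :
    Function.Surjective (Completion.map q) ∧ IsOpenMap (Completion.map q) := by
  have hcoe : ∀ m : M, Completion.map q (m : Completion M) = (q m : Completion Q) := fun m =>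
    Completion.map_coe (uniformContinuous_addMonoidHom_of_continuous hq) m
  have hb : (𝓝 (0 : M)).HasBasis (fun _ => True)
      fun V : OpenAddSubgroup M => ((V : AddSubgroup M) : Set M) :=
    ⟨fun s => ⟨fun hs => let ⟨V, hV⟩ := NonarchimedeanAddGroup.is_nonarchimedean s hs; ⟨V, trivial, hV⟩,
      fun ⟨V, _, hV⟩ => mem_of_superset (V.mem_nhds_zero) hV⟩⟩
  obtain ⟨V, -, hV⟩ := hb.exists_antitone_subbasis
  have hbasis := hasBasis_hatGroup (fun n => ((V n : OpenAddSubgroup M) : AddSubgroup M)) hV.1
  let f := q.completion hq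
  have key : ∀ n, f '' (hatGroup (V n : AddSubgroup M) : Set (Completion M)) ∈ 𝓝 (0 : Completion Q) := by
    intro n
    have h1 : ∀ n, closure (f '' (hatGroup (V n : AddSubgroup M) : Set (Completion M))) ∈ 𝓝 (0 : Completion Q) := by
      intro n
      have hqV : IsOpen ((((V n : AddSubgroup M)).map q : AddSubgroup Q) : Set Q) := by
        rw [AddSubgroup.coe_map]
        exact hqo _ (V n).isOpen'
      refine mem_of_superset ((isOpen_hatGroup hqV).mem_nhds (zero_mem _))
        (_root_.closure_mono ?_)
      rintro _ ⟨_, ⟨v, hv, rfl⟩, rfl⟩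
      exact ⟨(v : Completion M), subset_closure ⟨v, hv, rfl⟩, q.completion_coe hq v⟩
    rw [← image_eq_closure_image f (q.continuous_completion hq) (fun n => hatGroup (V n : AddSubgroup M))
      (fun i j hij => SetLike.coe_subset_coe.1 (_root_.closure_mono (Set.image_mono (hV.2 hij))))
      (fun n => isClosed_closure) (fun s hs => by simpa using hbasis.mem_iff.1 hs) h1 n]
    exact h1 n
  have hopen : IsOpenMap f := isOpenMap_of_nhds f fun s hs => by
    obtain ⟨n, -, hn⟩ := hbasis.mem_iff.1 hs
    exact mem_of_superset (key n) (Set.image_mono hn)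
  refine ⟨surjective_of_denseRange_of_isOpenMap f ?_ hopen, hopen⟩
  refine Dense.mono ?_ (Completion.denseRange_coe (α := Q))
  rintro _ ⟨y, rfl⟩
  obtain ⟨m, rfl⟩ := hqs y
  exact ⟨(m : Completion M), q.completion_coe hq m⟩

end LinTopLib
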